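import Mathlib
import Cfsg.Prelude.Def_Solvable

/-!
Groups with an element `x` of prime order `p` such that `C_G(x) = ⟨x⟩`.
-/

set_option autoImplicit false
set_option linter.style.haveILetI false
set_option linter.unusedVariables false

open scoped Pointwise

namespace CfsgLib.SelfCent

variable {G : Type*} [Group G] [Finite G]

theorem card_sup_dvd_mul (A B : Subgroup G) [B.Normal] :
    Nat.card ↥(A ⊔ B) ∣ Nat.card A * Nat.card B := by
  have h1 : B.relIndex (A ⊔ B) = B.relIndex A := Subgroup.relIndex_sup_right A B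
  have h2 : Nat.card B * B.relIndex (A ⊔ B) = Nat.card ↥(A ⊔ B) := by
    have := Subgroup.card_mul_index (B.subgroupOf (A ⊔ B))
    rwa [Nat.card_congr (Subgroup.subgroupOfEquivOfLe le_sup_right).toEquiv] at this
  rw [← h2, h1, mul_comm (Nat.card A)]
  exact Nat.mul_dvd_mul_left _ (Subgroup.relIndex_dvd_card B A)

theorem pPrimeCore_normal' (p : ℕ) : (Cfsg.pPrimeCore p G).Normal :=
  Subgroup.sSup_normal _ (fun _ h => h.1)

theorem pPrimeCore_coprime (p : ℕ) : (Nat.card (Cfsg.pPrimeCore p G)).Coprime p := by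
  classical
  have hfin : {N : Subgroup G | N.Normal ∧ (Nat.card N).Coprime p}.Finite := Set.toFinite _
  suffices h : ∀ S : Finset (Subgroup G), (∀ N ∈ S, N.Normal ∧ (Nat.card N).Coprime p) →
      (S.sup id).Normal ∧ (Nat.card ↥(S.sup id)).Coprime p by
    have h2 : Cfsg.pPrimeCore p G = hfin.toFinset.sup id := by
      rw [Finset.sup_id_eq_sSup, Set.Finite.coe_toFinset]; rfl
    rw [h2]
    exact (h _ fun N hN => hfin.mem_toFinset.mp hN).2
  intro S
  induction S using Finset.induction with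
  | empty =>
    intro _
    simp only [Finset.sup_empty]
    exact ⟨inferInstance, by simp⟩
  | insert a s ha ih =>
    intro hS
    obtain ⟨hn, hc⟩ := ih fun N hN => hS N (Finset.mem_insert_of_mem hN)
    obtain ⟨han, hac⟩ := hS a (Finset.mem_insert_self a s)
    rw [Finset.sup_insert, id]
    haveI := hn
    haveI := han
    exact ⟨inferInstance, Nat.Coprime.coprime_dvd_left (card_sup_dvd_mul a _) (hac.mul_left hc)⟩

theorem le_pPrimeCore {p : ℕ} {N : Subgroup G} (hn : N.Normal) (hc : (Nat.card N).Coprime p) :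
    N ≤ Cfsg.pPrimeCore p G :=
  le_sSup ⟨hn, hc⟩

/-- The standing hypothesis. -/
def IsSelfCent (p : ℕ) (x : G) : Prop :=
  p.Prime ∧ orderOf x = p ∧ Subgroup.centralizer ({x} : Set G) = Subgroup.zpowers x

variable {p : ℕ} {x : G}

theorem comm_mem_zpowers (h : IsSelfCent p x) {y : G} (hy : y * x = x * y) :
    y ∈ Subgroup.zpowers x := by
  rw [← h.2.2, Subgroup.mem_centralizer_singleton_iff]; exact hy

theorem IsSelfCent.card_P (h : IsSelfCent p x) : Nat.card (Subgroup.zpowers x) = p := by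
  rw [Nat.card_zpowers, h.2.1]

theorem IsSelfCent.ne_one (h : IsSelfCent p x) : x ≠ 1 := fun e => by
  have := h.2.1
  rw [e, orderOf_one] at this
  exact h.1.ne_one this.symm

theorem eq_zpowers_of_card {p : ℕ} (hp : p.Prime) {H : Subgroup G} (hH : Nat.card H = p) {y : G}
    (hy : y ∈ H) (hy1 : y ≠ 1) : Subgroup.zpowers y = H := by
  apply Subgroup.eq_of_le_of_card_ge (Subgroup.zpowers_le.mpr hy)
  have h2 : orderOf y ∣ p := by rw [← hH]; exact Subgroup.orderOf_dvd_natCard H hy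
  rcases hp.eq_one_or_self_of_dvd _ h2 with h3 | h3
  · exact absurd (orderOf_eq_one_iff.mp h3) hy1
  · rw [hH, Nat.card_zpowers, h3]

theorem exists_sylow (h : IsSelfCent p x) :
    ∃ P : Sylow p G, (P : Subgroup G) = Subgroup.zpowers x := by
  haveI : Fact p.Prime := ⟨h.1⟩
  have hPp : IsPGroup p (Subgroup.zpowers x) := IsPGroup.of_card (n := 1) (by rw [h.card_P, pow_one])
  obtain ⟨P, hP⟩ := hPp.exists_le_sylow
  refine ⟨P, le_antisymm ?_ hP⟩
  have hxP : x ∈ (P : Subgroup G) := hP (Subgroup.mem_zpowers x)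
  haveI : Nontrivial (P : Subgroup G) :=
    ⟨⟨⟨x, hxP⟩, 1, fun e => h.ne_one (congrArg Subtype.val e)⟩⟩
  haveI hcn : Nontrivial (Subgroup.center (P : Subgroup G)) := P.isPGroup'.center_nontrivial
  obtain ⟨⟨z, hz⟩, hz1⟩ := exists_ne (1 : Subgroup.center (P : Subgroup G))
  have hzx : (z : G) * x = x * z :=
    (congrArg Subtype.val (Subgroup.mem_center_iff.mp hz ⟨x, hxP⟩)).symm
  have hz1' : (z : G) ≠ 1 := fun e => hz1 (Subtype.ext (Subtype.ext e))
  have hgen : Subgroup.zpowers (z : G) = Subgroup.zpowers x :=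
    eq_zpowers_of_card h.1 h.card_P (comm_mem_zpowers h hzx) hz1'
  intro y hy
  apply comm_mem_zpowers h
  have hyz : y * (z : G) = z * y :=
    congrArg Subtype.val (Subgroup.mem_center_iff.mp hz ⟨y, hy⟩)
  obtain ⟨k, hk⟩ := Subgroup.mem_zpowers_iff.mp (hgen.symm ▸ Subgroup.mem_zpowers x)
  rw [← hk]
  exact ((show Commute y (z : G) from hyz).zpow_right k).eq

theorem card_P_mem_conj (h : IsSelfCent p x) {H : Subgroup G} (hH : Nat.card H = p) :
    ∃ g : G, (Subgroup.zpowers x).map (MulAut.conj g).toMonoidHom = H := by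
  haveI : Fact p.Prime := ⟨h.1⟩
  obtain ⟨P, hP⟩ := exists_sylow h
  obtain ⟨Q, hQ⟩ := (IsPGroup.of_card (n := 1) (by rw [hH, pow_one]) : IsPGroup p H).exists_le_sylow
  have hQc : Nat.card (Q : Subgroup G) = p := by
    rw [Q.card_eq_multiplicity, ← P.card_eq_multiplicity]
    show Nat.card ↥(P : Subgroup G) = p
    rw [hP, h.card_P]
  obtain ⟨g, hg⟩ := MulAction.exists_smul_eq G P Q
  refine ⟨g, ?_⟩
  have hg' : MulAut.conj g • (P : Subgroup G) = Q := by rw [← hg]; rfl
  rw [hP] at hg'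
  rw [Subgroup.eq_of_le_of_card_ge hQ (hQc.trans hH.symm).le, ← hg']
  rfl

theorem zpowers_le_of_dvd (h : IsSelfCent p x) (S : Subgroup G) [hS : S.Normal]
    (hd : p ∣ Nat.card S) : Subgroup.zpowers x ≤ S := by
  haveI : Fact p.Prime := ⟨h.1⟩
  obtain ⟨y, hy⟩ := exists_prime_orderOf_dvd_card' (G := S) p hd
  have hc : Nat.card (Subgroup.zpowers (y : G)) = p := by
    rw [Nat.card_zpowers, Subgroup.orderOf_coe, hy]
  obtain ⟨g, hg⟩ := card_P_mem_conj h hc
  rw [Subgroup.zpowers_le]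
  have h1 : g * x * g⁻¹ ∈ Subgroup.zpowers (y : G) := by
    rw [← hg]; exact ⟨x, Subgroup.mem_zpowers x, by simp⟩
  have h2 : g * x * g⁻¹ ∈ S := Subgroup.zpowers_le.mpr y.2 h1
  have h3 := hS.conj_mem _ h2 g⁻¹
  simpa [mul_assoc] using h3

/-- The normalizer of `⟨x⟩`. -/
abbrev nzr (x : G) : Subgroup G := Subgroup.normalizer (Subgroup.zpowers x : Set G)

theorem mem_nzr_iff (h : IsSelfCent p x) {g : G} :
    g ∈ nzr x ↔ g * x * g⁻¹ ∈ Subgroup.zpowers x := by
  constructor
  · intro hg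
    exact (Subgroup.mem_normalizer_iff.mp hg x).mp (Subgroup.mem_zpowers x)
  · intro hg
    rw [nzr, Subgroup.mem_normalizer_iff_map_conj_eq]
    refine Subgroup.eq_of_le_of_card_ge ?_ ?_
    · show Subgroup.map (MulAut.conj g).toMonoidHom (Subgroup.zpowers x) ≤ _
      rw [MonoidHom.map_zpowers, Subgroup.zpowers_le]
      simpa using hg
    · exact le_of_eq (Nat.card_congr
        (Subgroup.equivMapOfInjective _ _ (MulAut.conj g).injective).toEquiv)

theorem sup_nzr_eq_top (h : IsSelfCent p x) (S : Subgroup G) [S.Normal]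
    (hd : p ∣ Nat.card S) : S ⊔ nzr x = ⊤ := by
  haveI : Fact p.Prime := ⟨h.1⟩
  obtain ⟨P, hP⟩ := exists_sylow h
  have hle : (P : Subgroup G) ≤ S := hP.symm ▸ zpowers_le_of_dvd h S hd
  let Q : Sylow p S := P.subtype hle
  have h1 := Sylow.normalizer_sup_eq_top Q
  rw [sup_comm]
  have h2 : ((Q : Subgroup S)).map S.subtype = Subgroup.zpowers x := by
    rw [← hP]
    show ((P : Subgroup G).subgroupOf S).map S.subtype = P
    rw [Subgroup.subgroupOf_map_subtype, inf_eq_left.mpr hle]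
  rw [h2] at h1
  exact h1

theorem self_le_nzr : Subgroup.zpowers x ≤ nzr x := Subgroup.le_normalizer

theorem comm_mem_of_mem_nzr (h : IsSelfCent p x) {a b : G} (ha : a ∈ nzr x) (hb : b ∈ nzr x) :
    a * b * a⁻¹ * b⁻¹ ∈ Subgroup.zpowers x := by
  obtain ⟨i, hi⟩ := Subgroup.mem_zpowers_iff.mp ((mem_nzr_iff h).mp ha)
  obtain ⟨j, hj⟩ := Subgroup.mem_zpowers_iff.mp ((mem_nzr_iff h).mp hb)
  apply comm_mem_zpowers h
  have e1 : a⁻¹ * (x ^ i) * a = x := by rw [hi]; group
  have e2 : b⁻¹ * (x ^ j) * b = x := by rw [hj]; group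
  have c1 : ∀ n : ℤ, a * x ^ n * a⁻¹ = x ^ (i * n) := by
    intro n; rw [zpow_mul, hi, conj_zpow]
  have c2 : ∀ n : ℤ, b * x ^ n * b⁻¹ = x ^ (j * n) := by
    intro n; rw [zpow_mul, hj, conj_zpow]
  have k : (a * b) * x * (a * b)⁻¹ = (b * a) * x * (b * a)⁻¹ := by
    calc (a * b) * x * (a * b)⁻¹ = a * (b * x * b⁻¹) * a⁻¹ := by group
      _ = x ^ (i * j) := by rw [← hj, c1]
      _ = b * (a * x * a⁻¹) * b⁻¹ := by rw [← hi, c2, mul_comm]
      _ = _ := by group
  set w := a * b * a⁻¹ * b⁻¹ with hw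
  have : (b * a)⁻¹ * (a * b) * x = x * ((b * a)⁻¹ * (a * b)) := by
    calc (b * a)⁻¹ * (a * b) * x = (b * a)⁻¹ * ((a * b) * x * (a * b)⁻¹) * (a * b) := by group
      _ = _ := by rw [k]; group
  have hmem := comm_mem_zpowers h this
  have hn : w = (b * a) * ((b * a)⁻¹ * (a * b)) * (b * a)⁻¹ := by rw [hw]; group
  have hba : b * a ∈ nzr x := mul_mem hb ha
  have := comm_mem_zpowers h (y := w) ?_
  · obtain ⟨n, hn'⟩ := Subgroup.mem_zpowers_iff.mp this
    rw [← hn']
    exact ((Commute.refl x).zpow_left n).eq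
  · have hwm : w ∈ Subgroup.zpowers x := by
      rw [hn]; exact (Subgroup.mem_normalizer_iff.mp hba _).mp hmem
    obtain ⟨n, hn'⟩ := Subgroup.mem_zpowers_iff.mp hwm
    rw [← hn']
    exact ((Commute.refl x).zpow_left n).eq

theorem commutator_le_of_dvd (h : IsSelfCent p x) (S : Subgroup G) [hS : S.Normal]
    (hd : p ∣ Nat.card S) : commutator G ≤ S := by
  rw [← Subgroup.Normal.quotient_commutative_iff_commutator_le]
  have hsurj : ∀ q : G ⧸ S, ∃ a ∈ nzr x, (a : G ⧸ S) = q := by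
    intro q
    obtain ⟨g, rfl⟩ := QuotientGroup.mk_surjective q
    have hg : g ∈ nzr x ⊔ S := by rw [sup_comm, sup_nzr_eq_top h S hd]; trivial
    obtain ⟨a, ha, s, hs, rfl⟩ := Subgroup.mem_sup_of_normal_right.mp hg
    exact ⟨a, ha, (QuotientGroup.mk_mul_of_mem a hs).symm⟩
  refine ⟨⟨fun q r => ?_⟩⟩
  obtain ⟨a, ha, rfl⟩ := hsurj q
  obtain ⟨b, hb, rfl⟩ := hsurj r
  rw [← QuotientGroup.mk_mul, ← QuotientGroup.mk_mul, QuotientGroup.eq_iff_div_mem]
  have := zpowers_le_of_dvd h S hd (comm_mem_of_mem_nzr h ha hb)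
  have e : a * b / (b * a) = a * b * a⁻¹ * b⁻¹ := by simp [div_eq_mul_inv, mul_assoc]
  rwa [e]

section prime_to_p

variable (h : IsSelfCent p x) (S : Subgroup G) [hS : S.Normal] (hd : ¬ p ∣ Nat.card S)

include h hd

theorem inf_zpowers_eq_bot : S ⊓ Subgroup.zpowers x = ⊥ := by
  apply Subgroup.inf_eq_bot_of_coprime
  rw [h.card_P]
  exact ((h.1.coprime_iff_not_dvd).mpr hd).symm

theorem fpf {s : G} (hs : s ∈ S) (hc : s * x = x * s) : s = 1 :=
  Subgroup.mem_bot.mp (inf_zpowers_eq_bot h S hd ▸ Subgroup.mem_inf.mpr ⟨hs, comm_mem_zpowers h hc⟩)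

theorem exists_comm_eq {c : G} (hc : c ∈ S) : ∃ s ∈ S, x * s * x⁻¹ * s⁻¹ = c := by
  let f : S → S := fun s => ⟨x * s * x⁻¹ * (s : G)⁻¹, mul_mem (hS.conj_mem _ s.2 x) (inv_mem s.2)⟩
  have hf : Function.Injective f := by
    intro s t e
    have e1 : x * (s : G) * x⁻¹ * (s : G)⁻¹ = x * t * x⁻¹ * (t : G)⁻¹ := congrArg Subtype.val e
    have e2 : ((t : G)⁻¹ * s) * x = x * ((t : G)⁻¹ * s) := by
      calc ((t : G)⁻¹ * s) * x = (t : G)⁻¹ * (x * t * x⁻¹ * (t : G)⁻¹)⁻¹ * (x * t * x⁻¹ * (t:G)⁻¹) * s * x := by group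
        _ = (t : G)⁻¹ * (x * t * x⁻¹ * (t : G)⁻¹)⁻¹ * (x * s * x⁻¹ * (s:G)⁻¹) * s * x := by rw [e1]
        _ = x * ((t : G)⁻¹ * s) := by group
    have := fpf h S hd (mul_mem (inv_mem t.2) s.2) e2
    exact Subtype.ext (inv_mul_eq_one.mp this).symm
  obtain ⟨s, hs⟩ := (Finite.injective_iff_surjective.mp hf) ⟨c, hc⟩
  exact ⟨s, s.2, congrArg Subtype.val hs⟩

theorem le_commutator : S ≤ commutator G := by
  intro c hc
  obtain ⟨s, _, rfl⟩ := exists_comm_eq h S hd hc
  exact Subgroup.commutator_mem_commutator (Subgroup.mem_top x) (Subgroup.mem_top s)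

theorem not_mem : x ∉ S := fun hx =>
  h.ne_one (fpf h S hd hx rfl)

theorem orderOf_quotient : orderOf (QuotientGroup.mk x : G ⧸ S) = p := by
  have h1 : orderOf (QuotientGroup.mk' S x) ∣ orderOf x := orderOf_map_dvd _ x
  rw [h.2.1] at h1
  rcases h.1.eq_one_or_self_of_dvd _ h1 with h2 | h2
  · rw [orderOf_eq_one_iff] at h2
    exact absurd ((QuotientGroup.eq_one_iff x).mp h2) (not_mem h S hd)
  · exact h2

theorem centralizer_quotient :
    Subgroup.centralizer ({(QuotientGroup.mk x : G ⧸ S)} : Set (G ⧸ S)) =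
      Subgroup.zpowers (QuotientGroup.mk x : G ⧸ S) := by
  apply le_antisymm
  · intro q hq
    obtain ⟨y, rfl⟩ := QuotientGroup.mk_surjective q
    rw [Subgroup.mem_centralizer_singleton_iff, ← QuotientGroup.mk_mul, ← QuotientGroup.mk_mul,
      QuotientGroup.eq_iff_div_mem] at hq
    have hq' : x * y * x⁻¹ * y⁻¹ ∈ S := by
      have e : x * y * x⁻¹ * y⁻¹ = (y * x / (x * y))⁻¹ := by simp [div_eq_mul_inv, mul_assoc]
      rw [e]; exact inv_mem hq
    obtain ⟨s, hs, hse⟩ := exists_comm_eq h S hd hq'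
    have hz : s⁻¹ * y ∈ Subgroup.zpowers x := by
      apply comm_mem_zpowers h
      have e1 : s * x * s⁻¹ = y * x * y⁻¹ := by
        calc s * x * s⁻¹ = (x⁻¹ * (x * s * x⁻¹ * s⁻¹))⁻¹ := by group
          _ = (x⁻¹ * (x * y * x⁻¹ * y⁻¹))⁻¹ := by rw [hse]
          _ = y * x * y⁻¹ := by group
      calc s⁻¹ * y * x = s⁻¹ * (y * x * y⁻¹) * y := by group
        _ = s⁻¹ * (s * x * s⁻¹) * y := by rw [e1]
        _ = x * (s⁻¹ * y) := by group
    obtain ⟨k, hk⟩ := Subgroup.mem_zpowers_iff.mp hz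
    rw [Subgroup.mem_zpowers_iff]
    refine ⟨k, ?_⟩
    rw [← QuotientGroup.mk_zpow, hk, QuotientGroup.mk_mul, (QuotientGroup.eq_one_iff _).mpr (inv_mem hs), one_mul]
  · rw [Subgroup.zpowers_le]
    exact Subgroup.mem_centralizer_singleton_iff.mpr rfl

theorem card_mod_eq_one : Nat.card S % p = 1 := by
  haveI : Fact p.Prime := ⟨h.1⟩
  let f : Subgroup.zpowers x →* MulAut S := MulAut.conjNormal.comp (Subgroup.zpowers x).subtype
  letI : MulAction (Subgroup.zpowers x) S := MulAction.compHom S f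
  have hfix : MulAction.fixedPoints (Subgroup.zpowers x) S = {1} := by
    ext s
    simp only [MulAction.mem_fixedPoints, Set.mem_singleton_iff]
    constructor
    · intro hs
      have := congrArg Subtype.val (hs ⟨x, Subgroup.mem_zpowers x⟩)
      change x * (s : G) * x⁻¹ = s at this
      exact Subtype.ext (fpf h S hd s.2 (mul_inv_eq_iff_eq_mul.mp this).symm)
    · rintro rfl q
      show f q 1 = 1
      exact map_one _
  have hpg : IsPGroup p (Subgroup.zpowers x) := IsPGroup.of_card (n := 1) (by rw [h.card_P, pow_one])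
  have := hpg.card_modEq_card_fixedPoints S
  rw [hfix, Nat.card_coe_set_eq, Set.ncard_singleton] at this
  rwa [Nat.ModEq, Nat.one_mod_eq_one.mpr h.1.ne_one] at this

theorem inf_nzr_eq_bot : S ⊓ nzr x = ⊥ := by
  rw [Subgroup.eq_bot_iff_forall]
  intro s hs
  obtain ⟨hs1, hs2⟩ := Subgroup.mem_inf.mp hs
  have h1 : x * s * x⁻¹ * s⁻¹ ∈ S := mul_mem (hS.conj_mem _ hs1 x) (inv_mem hs1)
  have h2 : x * s * x⁻¹ * s⁻¹ ∈ Subgroup.zpowers x :=
    comm_mem_of_mem_nzr h (self_le_nzr (Subgroup.mem_zpowers x)) hs2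
  have h3 : x * s * x⁻¹ * s⁻¹ = 1 :=
    Subgroup.mem_bot.mp (inf_zpowers_eq_bot h S hd ▸ Subgroup.mem_inf.mpr ⟨h1, h2⟩)
  refine fpf h S hd hs1 ?_
  calc s * x = 1 * s * x := by group
    _ = x * s * x⁻¹ * s⁻¹ * s * x := by rw [h3]
    _ = x * s := by group

theorem card_map_nzr : Nat.card ((nzr x).map (QuotientGroup.mk' S)) = Nat.card (nzr x) := by
  have hinj : Function.Injective ((QuotientGroup.mk' S).comp (nzr x).subtype) := by
    rw [injective_iff_map_eq_one]
    intro a ha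
    have ha' : (a : G) ∈ S := (QuotientGroup.eq_one_iff _).mp ha
    exact Subtype.ext (Subgroup.mem_bot.mp
      (inf_nzr_eq_bot h S hd ▸ Subgroup.mem_inf.mpr ⟨ha', a.2⟩))
  have e := Nat.card_congr (MonoidHom.ofInjective hinj).toEquiv
  rw [MonoidHom.range_comp, Subgroup.range_subtype] at e
  exact e.symm

theorem dvd_index_nzr : Nat.card S ∣ (nzr x).index := by
  have h1 : Nat.card (nzr x) * Nat.card S ∣ Nat.card G := by
    rw [← Subgroup.index_mul_card S, ← card_map_nzr h S hd]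
    exact Nat.mul_dvd_mul_right (Subgroup.card_subgroup_dvd_card _) _
  rw [← Subgroup.card_mul_index (nzr x)] at h1
  exact Nat.dvd_of_mul_dvd_mul_left Nat.card_pos h1

end prime_to_p

theorem card_order_p_subgroups (h : IsSelfCent p x) :
    Nat.card {H : Subgroup G // Nat.card H = p} = (nzr x).index := by
  haveI : Fact p.Prime := ⟨h.1⟩
  obtain ⟨P, hP⟩ := exists_sylow h
  have hc : ∀ Q : Sylow p G, Nat.card (Q : Subgroup G) = p := by
    intro Q
    rw [Q.card_eq_multiplicity, ← P.card_eq_multiplicity]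
    show Nat.card ↥(P : Subgroup G) = p
    rw [hP, h.card_P]
  have hbij : Function.Bijective
      (fun Q : Sylow p G => (⟨(Q : Subgroup G), hc Q⟩ : {H : Subgroup G // Nat.card H = p})) := by
    refine ⟨fun Q R e => Sylow.ext (congrArg Subtype.val e), ?_⟩
    rintro ⟨H, hH⟩
    obtain ⟨Q, hQ⟩ := (IsPGroup.of_card (n := 1) (by rw [hH, pow_one]) : IsPGroup p H).exists_le_sylow
    exact ⟨Q, Subtype.ext (Subgroup.eq_of_le_of_card_ge hQ ((hc Q).trans hH.symm).le).symm⟩
  rw [← Nat.card_congr (Equiv.ofBijective _ hbij), Sylow.card_eq_index_normalizer P]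
  show (Subgroup.normalizer ((P : Subgroup G) : Set G)).index = _
  rw [hP]

/-- `e = [N_G(⟨x⟩) : ⟨x⟩]`. -/
noncomputable def eIdx (x : G) : ℕ := (Subgroup.zpowers x).relIndex (nzr x)

/-- The number of classes of elements of order `p` times `e` is `p - 1`. -/
theorem classes_mul_eIdx (h : IsSelfCent p x) :
    Nat.card {C : ConjClasses G // ∃ g ∈ C.carrier, orderOf g = p} * eIdx x = p - 1 := by
  classical
  haveI : Fintype G := Fintype.ofFinite G
  let D : Finset G := Finset.univ.filter fun y => y ∈ Subgroup.zpowers x ∧ y ≠ 1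
  have hDc : D.card = p - 1 := by
    have h0 : D = (Finset.univ.filter fun y => y ∈ Subgroup.zpowers x).erase 1 := by
      ext y; simp [D, and_comm]
    rw [h0, Finset.card_erase_of_mem (by simp), ← Fintype.card_subtype,
      ← Nat.card_eq_fintype_card, h.card_P]
  let T : Finset (ConjClasses G) := D.image ConjClasses.mk
  have hT : Nat.card {C : ConjClasses G // ∃ g ∈ C.carrier, orderOf g = p} = T.card := by
    rw [← Nat.card_eq_finsetCard]
    apply Nat.card_congr (Equiv.subtypeEquivRight _)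
    intro C
    simp only [T, Finset.mem_image, D, Finset.mem_filter, Finset.mem_univ, true_and]
    constructor
    · rintro ⟨g, hg, ho⟩
      have hc : Nat.card (Subgroup.zpowers g) = p := by rw [Nat.card_zpowers, ho]
      obtain ⟨a, ha⟩ := card_P_mem_conj h hc
      have hgm : g ∈ (Subgroup.zpowers x).map (MulAut.conj a).toMonoidHom :=
        ha.symm ▸ Subgroup.mem_zpowers g
      obtain ⟨y, hy, hye⟩ := hgm
      refine ⟨y, ⟨hy, ?_⟩, ?_⟩
      · rintro rfl
        rw [map_one] at hye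
        subst hye
        exact h.1.ne_one (ho.symm.trans orderOf_one)
      · rw [← ConjClasses.mem_carrier_iff_mk_eq.mp hg, ConjClasses.mk_eq_mk_iff_isConj]
        exact isConj_iff.mpr ⟨a, by simpa using hye⟩
    · rintro ⟨y, ⟨hy, hy1⟩, rfl⟩
      refine ⟨y, ConjClasses.mem_carrier_mk, ?_⟩
      rw [← Nat.card_zpowers, eq_zpowers_of_card h.1 h.card_P hy hy1, h.card_P]
  rw [hT, ← hDc, Finset.card_eq_sum_card_image ConjClasses.mk D]
  rw [Finset.sum_const_nat (m := eIdx x)]
  intro C hC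
  obtain ⟨y, hyD, rfl⟩ := Finset.mem_image.mp hC
  simp only [D, Finset.mem_filter, Finset.mem_univ, true_and] at hyD
  obtain ⟨hy, hy1⟩ := hyD
  have hgen : Subgroup.zpowers y = Subgroup.zpowers x := eq_zpowers_of_card h.1 h.card_P hy hy1
  letI : MulAction (nzr x) G := MulAction.compHom G (ConjAct.toConjAct.toMonoidHom.comp (nzr x).subtype)
  have hsmul : ∀ (a : nzr x) (z : G), a • z = (a : G) * z * (a : G)⁻¹ := fun a z => rfl
  have hst : MulAction.stabilizer (nzr x) y = (Subgroup.zpowers x).subgroupOf (nzr x) := by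
    ext a
    rw [MulAction.mem_stabilizer_iff, hsmul, Subgroup.mem_subgroupOf, mul_inv_eq_iff_eq_mul]
    constructor
    · intro ha
      obtain ⟨k, hk⟩ := Subgroup.mem_zpowers_iff.mp (hgen.symm ▸ Subgroup.mem_zpowers x)
      apply comm_mem_zpowers h
      have := ((show Commute (a : G) y from ha).zpow_right k).eq
      rwa [hk] at this
    · intro ha
      obtain ⟨k, hk⟩ := Subgroup.mem_zpowers_iff.mp ha
      obtain ⟨j, hj⟩ := Subgroup.mem_zpowers_iff.mp hy
      rw [← hk, ← hj, ← zpow_add, ← zpow_add, add_comm]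
  have horb : ∀ z : G, z ∈ MulAction.orbit (nzr x) y ↔
      (z ∈ Subgroup.zpowers x ∧ z ≠ 1 ∧ ConjClasses.mk z = ConjClasses.mk y) := by
    intro z
    constructor
    · rintro ⟨a, rfl⟩
      refine ⟨?_, ?_, ?_⟩
      · exact (Subgroup.mem_normalizer_iff.mp a.2 y).mp hy
      · intro e
        apply hy1
        change (a : G) * y * (a : G)⁻¹ = 1 at e
        exact conj_eq_one_iff.mp e
      · exact (ConjClasses.mk_eq_mk_iff_isConj.mpr (isConj_iff.mpr ⟨(a : G), rfl⟩) :
          ConjClasses.mk y = ConjClasses.mk ((a : G) * y * (a : G)⁻¹)).symm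
    · rintro ⟨hz, hz1, hzc⟩
      obtain ⟨a, ha⟩ := isConj_iff.mp (ConjClasses.mk_eq_mk_iff_isConj.mp hzc.symm)
      have han : a ∈ nzr x := by
        rw [mem_nzr_iff h]
        obtain ⟨k, hk⟩ := Subgroup.mem_zpowers_iff.mp (hgen.symm ▸ Subgroup.mem_zpowers x)
        have e : a * x * a⁻¹ = z ^ k := by
          have e2 : (a * y * a⁻¹) ^ k = a * y ^ k * a⁻¹ := conj_zpow
          rw [hk, ha] at e2
          exact e2.symm
        rw [e]
        exact zpow_mem hz k
      exact ⟨⟨a, han⟩, ha⟩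
  have hf : ((D.filter fun z => ConjClasses.mk z = ConjClasses.mk y) : Set G)
      = MulAction.orbit (nzr x) y := by
    ext z
    simp only [Finset.coe_filter, D, Finset.mem_filter, Finset.mem_univ, true_and,
      Set.mem_setOf_eq, horb]
    tauto
  rw [← Set.ncard_coe_finset, hf, ← MulAction.index_stabilizer, hst]
  rfl

theorem eIdx_eq_one_iff (h : IsSelfCent p x) : eIdx x = 1 ↔ nzr x = Subgroup.zpowers x := by
  rw [eIdx, Subgroup.relIndex_eq_one]
  exact ⟨fun h1 => le_antisymm h1 self_le_nzr, fun h1 => h1.le⟩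

theorem eIdx_pos : 0 < eIdx x := Nat.pos_of_ne_zero Subgroup.index_ne_zero_of_finite

theorem t_eq_iff (h : IsSelfCent p x) {t : ℕ}
    (ht : Nat.card {C : ConjClasses G // ∃ g ∈ C.carrier, orderOf g = p} = t) :
    t = p - 1 ↔ eIdx x = 1 := by
  have h1 := classes_mul_eIdx h
  rw [ht] at h1
  have h2 : 2 ≤ p := h.1.two_le
  constructor
  · intro e
    rw [e] at h1
    exact Nat.eq_of_mul_eq_mul_left (by omega : 0 < p - 1) (h1.trans (mul_one _).symm)
  · intro e
    rw [e, mul_one] at h1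
    exact h1

/-- Case `e ≠ 1`: `x` lies in the commutator subgroup. -/
theorem dvd_commutator_of_ne (h : IsSelfCent p x) (he : eIdx x ≠ 1) :
    p ∣ Nat.card (commutator G) := by
  rw [Ne, eIdx_eq_one_iff h] at he
  obtain ⟨n, hn, hn'⟩ : ∃ n ∈ nzr x, n ∉ Subgroup.zpowers x := by
    by_contra hc
    push Not at hc
    exact he (le_antisymm hc self_le_nzr)
  set w := n * x * n⁻¹ * x⁻¹ with hw
  have hwP : w ∈ Subgroup.zpowers x :=
    mul_mem ((mem_nzr_iff h).mp hn) (inv_mem (Subgroup.mem_zpowers x))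
  have hw1 : w ≠ 1 := by
    intro e
    apply hn'
    apply comm_mem_zpowers h
    calc n * x = w * x * n := by rw [hw]; group
      _ = x * n := by rw [e, one_mul]
  have hle : Subgroup.zpowers x ≤ commutator G := by
    rw [← eq_zpowers_of_card h.1 h.card_P hwP hw1, Subgroup.zpowers_le]
    exact Subgroup.commutator_mem_commutator (Subgroup.mem_top n) (Subgroup.mem_top x)
  rw [← h.card_P]
  exact Subgroup.card_dvd_of_le hle

theorem index_commutator_dvd (h : IsSelfCent p x) (he : eIdx x ≠ 1) :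
    (commutator G).index ∣ eIdx x := by
  have hd := dvd_commutator_of_ne h he
  have hle := zpowers_le_of_dvd h _ hd
  have h1 : (commutator G).relIndex (nzr x) = (commutator G).index := by
    have h2 := Subgroup.relIndex_sup_right (nzr x) (commutator G)
    rw [sup_comm, sup_nzr_eq_top h _ hd, Subgroup.relIndex_top_right] at h2
    exact h2.symm
  rw [← h1, eIdx]
  exact Subgroup.relIndex_dvd_of_le_left (nzr x) hle

theorem core_le_commutator (h : IsSelfCent p x) : Cfsg.pPrimeCore p G ≤ commutator G := by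
  haveI := pPrimeCore_normal' (G := G) p
  exact le_commutator h _ (h.1.coprime_iff_not_dvd.mp (pPrimeCore_coprime p).symm)

/-- Case `e = 1`: Burnside's transfer gives the normal complement. -/
theorem index_commutator_of_eq (h : IsSelfCent p x) (he : eIdx x = 1) :
    commutator G = Cfsg.pPrimeCore p G ∧ (commutator G).index = p ∧
      Nat.card (commutator G) = (nzr x).index := by
  haveI : Fact p.Prime := ⟨h.1⟩
  obtain ⟨P, hP⟩ := exists_sylow h
  have hN : nzr x = Subgroup.zpowers x := (eIdx_eq_one_iff h).mp he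
  have hle : Subgroup.normalizer ((P : Subgroup G) : Set G) ≤
      Subgroup.centralizer ((P : Subgroup G) : Set G) := by
    rw [hP, ← nzr, hN, Subgroup.zpowers_le, Subgroup.mem_centralizer_iff]
    intro y hy
    obtain ⟨k, rfl⟩ := Subgroup.mem_zpowers_iff.mp hy
    exact ((Commute.refl x).zpow_left k).eq
  have hcomp := MonoidHom.ker_transferSylow_isComplement' P hle
  set K := (MonoidHom.transferSylow P hle).ker with hK
  haveI : K.Normal := MonoidHom.normal_ker _
  have hidx : K.index = p := by rw [hcomp.symm.index_eq_card, hP, h.card_P]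
  have hcard : Nat.card K = (nzr x).index := by
    rw [hN, ← hP, hcomp.index_eq_card]
  have hKd : ¬ p ∣ Nat.card K := MonoidHom.not_dvd_card_ker_transferSylow P hle
  have h1 : commutator G ≤ K := by
    rw [← Subgroup.Normal.quotient_commutative_iff_commutator_le]
    have hq : Nat.card (G ⧸ K) = p := hidx
    haveI := isCyclic_of_prime_card hq
    exact ⟨⟨fun a b => IsCyclic.isMulCommutative.is_comm.comm a b⟩⟩
  have h2 : commutator G = K := le_antisymm h1 (le_commutator h K hKd)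
  refine ⟨le_antisymm (h2 ▸ le_pPrimeCore inferInstance
    ((h.1.coprime_iff_not_dvd.mpr hKd).symm)) (core_le_commutator h), h2.symm ▸ hidx, h2.symm ▸ hcard⟩

end CfsgLib.SelfCent
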