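import Cfsg.Agent.Lib.Groups.SelfCentPrime

/-!
Simplicity criteria: a self-centralizing subgroup of prime order `2 q + 1`, and a point stabilizer.
-/

set_option autoImplicit false

open scoped Pointwise

namespace CfsgLib.SimpleCrit

open CfsgLib.SelfCent

variable {G : Type*} [Group G] [Finite G]

theorem card_nzr {p : ℕ} {x : G} (h : IsSelfCent p x) : Nat.card (nzr x) = p * eIdx x := by
  have h1 := Subgroup.card_mul_index ((Subgroup.zpowers x).subgroupOf (nzr x))
  rw [Nat.card_congr (Subgroup.subgroupOfEquivOfLe self_le_nzr).toEquiv, h.card_P] at h1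
  exact h1.symm

theorem eIdx_dvd_q {p q : ℕ} {x : G} (h : IsSelfCent p x) (hp : p = 2 * q + 1)
    (hinv : ∀ g : G, g * x * g⁻¹ ≠ x⁻¹) : eIdx x ∣ q := by
  have hdvd : eIdx x ∣ 2 * q := by
    have := classes_mul_eIdx h
    exact ⟨_, ((show p - 1 = 2 * q by omega) ▸ this).symm.trans (mul_comm _ _)⟩
  refine Nat.Coprime.dvd_of_dvd_mul_left ?_ hdvd
  rw [Nat.coprime_two_right, Nat.odd_iff]
  by_contra hev
  have h2 : 2 ∣ Nat.card (nzr x) := by
    rw [card_nzr h]; exact Dvd.dvd.mul_left (Nat.dvd_of_mod_eq_zero (by omega)) _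
  haveI : Fact (Nat.Prime 2) := ⟨Nat.prime_two⟩
  obtain ⟨g, hg⟩ := exists_prime_orderOf_dvd_card' (G := nzr x) 2 h2
  have hgo : orderOf (g : G) = 2 := by rw [Subgroup.orderOf_coe, hg]
  obtain ⟨i, hi⟩ := Subgroup.mem_zpowers_iff.mp ((mem_nzr_iff h).mp g.2)
  have hgg : (g : G) * g = 1 := by
    have := pow_orderOf_eq_one (g : G)
    rwa [hgo, pow_two] at this
  have hii : x ^ (i * i) = x := by
    rw [zpow_mul, hi, conj_zpow, hi]
    calc (g : G) * ((g : G) * x * (g : G)⁻¹) * (g : G)⁻¹
        = ((g : G) * g) * x * ((g : G) * g)⁻¹ := by group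
      _ = x := by rw [hgg]; group
  have hmod : (p : ℤ) ∣ (i - 1) * (i + 1) := by
    have h1 : x ^ (i * i - 1) = 1 := by rw [zpow_sub, hii, zpow_one, mul_inv_cancel]
    have := orderOf_dvd_iff_zpow_eq_one.mpr h1
    rw [h.2.1] at this
    rwa [show (i - 1) * (i + 1) = i * i - 1 by ring]
  rcases (Nat.prime_iff_prime_int.mp h.1).dvd_or_dvd hmod with h1 | h1
  · have hx : (g : G) * x * (g : G)⁻¹ = x := by
      rw [← hi]
      have : x ^ (i - 1) = 1 := orderOf_dvd_iff_zpow_eq_one.mp (by rw [h.2.1]; exact h1)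
      rw [zpow_sub, zpow_one, mul_inv_eq_one] at this
      exact this
    have hgP := comm_mem_zpowers h (mul_inv_eq_iff_eq_mul.mp hx)
    have hd := orderOf_dvd_natCard (⟨(g : G), hgP⟩ : Subgroup.zpowers x)
    rw [Subgroup.orderOf_mk, hgo, h.card_P] at hd
    have := (Nat.prime_dvd_prime_iff_eq Nat.prime_two h.1).mp hd
    omega
  · refine hinv g ?_
    rw [← hi]
    have : x ^ (i + 1) = 1 := orderOf_dvd_iff_zpow_eq_one.mp (by rw [h.2.1]; exact h1)
    rw [zpow_add, zpow_one] at this
    exact eq_inv_of_mul_eq_one_left this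

theorem eIdx_eq_one_false {p : ℕ} {x : G} (h : IsSelfCent p x) (he : eIdx x = 1)
    (hnorm : ∀ N : Subgroup G, N.Normal → N ≠ ⊥ → p ∣ Nat.card N) : Nat.card G = p := by
  obtain ⟨hc, hidx, -⟩ := index_commutator_of_eq h he
  have hbot : commutator G = ⊥ := by
    by_contra hne
    have := hnorm (commutator G) inferInstance hne
    rw [hc] at this
    exact (h.1.coprime_iff_not_dvd.mp (pPrimeCore_coprime p).symm) this
  rwa [hbot, Subgroup.index_bot] at hidx

/-- Simplicity from a self-centralizing element of order `2 q + 1` that is not inverted, when the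
order of every nontrivial normal subgroup is a multiple of that prime. -/
theorem isSimpleGroup_of_selfCent {p q : ℕ} {x : G} (h : IsSelfCent p x) (hq : q.Prime)
    (hp : p = 2 * q + 1) (hinv : ∀ g : G, g * x * g⁻¹ ≠ x⁻¹)
    (hnorm : ∀ N : Subgroup G, N.Normal → N ≠ ⊥ → p ∣ Nat.card N)
    (hcard : p * q < Nat.card G) : IsSimpleGroup G := by
  have hpp : p ≤ p * q := Nat.le_mul_of_pos_right p hq.pos
  haveI : Nontrivial G := Finite.one_lt_card_iff_nontrivial.mp (by have := h.1.two_le; omega)
  have he : eIdx x = q := by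
    rcases hq.eq_one_or_self_of_dvd _ (eIdx_dvd_q h hp hinv) with he | he
    · have := eIdx_eq_one_false h he hnorm
      omega
    · exact he
  have he1 : eIdx x ≠ 1 := he ▸ hq.ne_one
  refine ⟨fun N hN => ?_⟩
  by_contra hc
  push Not at hc
  obtain ⟨hNb, hNt⟩ := hc
  haveI := hN
  have hd := hnorm N hN hNb
  have hxN : Subgroup.zpowers x ≤ N := zpowers_le_of_dvd h N hd
  have hidx : N.index = q := by
    have h1 := (Subgroup.index_dvd_of_le (commutator_le_of_dvd h N hd)).trans
      (he ▸ index_commutator_dvd h he1)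
    rcases hq.eq_one_or_self_of_dvd _ h1 with h2 | h2
    · exact absurd (Subgroup.index_eq_one.mp h2) hNt
    · exact h2
  have hrel : N.relIndex (nzr x) = q := by
    have h2 := Subgroup.relIndex_sup_right (nzr x) N
    rw [sup_comm, sup_nzr_eq_top h N hd, Subgroup.relIndex_top_right] at h2
    exact h2 ▸ hidx
  have hinf : Nat.card ↥(N.subgroupOf (nzr x)) = p := by
    have h1 := Subgroup.card_mul_index (N.subgroupOf (nzr x))
    rw [show (N.subgroupOf (nzr x)).index = q from hrel, card_nzr h, he] at h1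
    exact Nat.eq_of_mul_eq_mul_right hq.pos h1
  have hinf' : N ⊓ nzr x = Subgroup.zpowers x := by
    refine (Subgroup.eq_of_le_of_card_ge (le_inf hxN self_le_nzr) ?_).symm
    rw [h.card_P, ← hinf, ← Subgroup.inf_subgroupOf_right,
      Nat.card_congr (Subgroup.subgroupOfEquivOfLe inf_le_right).toEquiv]
  let x' : N := ⟨x, hxN (Subgroup.mem_zpowers x)⟩
  have h' : IsSelfCent p x' := by
    refine ⟨h.1, by rw [← Subgroup.orderOf_coe]; exact h.2.1, le_antisymm ?_ ?_⟩
    · intro y hy
      rw [Subgroup.mem_centralizer_singleton_iff] at hy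
      obtain ⟨k, hk⟩ := Subgroup.mem_zpowers_iff.mp (comm_mem_zpowers h (congrArg Subtype.val hy))
      exact Subgroup.mem_zpowers_iff.mpr ⟨k, Subtype.ext (by simpa [x'] using hk)⟩
    · rw [Subgroup.zpowers_le, Subgroup.mem_centralizer_singleton_iff]
  have he' : eIdx x' = 1 := by
    rw [eIdx_eq_one_iff h']
    refine le_antisymm (fun y hy => ?_) self_le_nzr
    have hy' : (y : G) ∈ N ⊓ nzr x := by
      refine ⟨y.2, (mem_nzr_iff h).mpr ?_⟩
      obtain ⟨k, hk⟩ := Subgroup.mem_zpowers_iff.mp ((mem_nzr_iff h').mp hy)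
      exact Subgroup.mem_zpowers_iff.mpr ⟨k, by simpa [x'] using congrArg Subtype.val hk⟩
    rw [hinf'] at hy'
    obtain ⟨k, hk⟩ := Subgroup.mem_zpowers_iff.mp hy'
    exact Subgroup.mem_zpowers_iff.mpr ⟨k, Subtype.ext (by simpa [x'] using hk)⟩
  obtain ⟨hc', hidx', -⟩ := index_commutator_of_eq h' he'
  have hbot : commutator N = ⊥ := by
    by_contra hne
    have hKne : ⁅N, N⁆ ≠ ⊥ := fun h0 => hne (by
      apply (Subgroup.map_eq_bot_iff_of_injective _ N.subtype_injective).mp
      rw [Subgroup.map_subtype_commutator, h0])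
    have hdvd := hnorm _ inferInstance hKne
    rw [← Subgroup.map_subtype_commutator,
      ← Nat.card_congr (Subgroup.equivMapOfInjective _ _ N.subtype_injective).toEquiv, hc'] at hdvd
    exact (h.1.coprime_iff_not_dvd.mp (pPrimeCore_coprime p).symm) hdvd
  rw [hbot, Subgroup.index_bot] at hidx'
  have := Subgroup.index_mul_card N
  rw [hidx, hidx', mul_comm] at this
  omega

/-- A primitive-type criterion: `G` has a simple point stabilizer, every nontrivial normal
subgroup is transitive, and there is no regular normal subgroup. -/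
theorem isSimpleGroup_of_stabilizer {X : Type*} [MulAction G X] (a : X)
    [hsimp : IsSimpleGroup (MulAction.stabilizer G a)]
    (htrans : ∀ N : Subgroup G, N.Normal → N ≠ ⊥ → MulAction.IsPretransitive N X)
    (hreg : ∀ N : Subgroup G, N.Normal → Nat.card N ≠ Nat.card X) : IsSimpleGroup G := by
  haveI : Nontrivial G := Subtype.val_injective.nontrivial (α := MulAction.stabilizer G a)
  refine ⟨fun N hN => ?_⟩
  by_contra hc
  push Not at hc
  obtain ⟨hNb, hNt⟩ := hc
  haveI := htrans N hN hNb
  haveI := hN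
  rcases (inferInstance : (N.subgroupOf (MulAction.stabilizer G a)).Normal).eq_bot_or_eq_top with h | h
  · refine hreg N hN ?_
    have hst : MulAction.stabilizer N a = ⊥ := by
      rw [Subgroup.eq_bot_iff_forall]
      intro n hn
      have h1 : (⟨(n : G), hn⟩ : MulAction.stabilizer G a) ∈ N.subgroupOf (MulAction.stabilizer G a) :=
        Subgroup.mem_subgroupOf.mpr n.2
      rw [h, Subgroup.mem_bot] at h1
      have h3 := congrArg (fun z : MulAction.stabilizer G a => (z : G)) h1
      exact Subtype.ext (by simpa using h3)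
    have h2 := MulAction.index_stabilizer_of_transitive N a
    rw [hst, Subgroup.index_bot] at h2
    exact h2
  · rw [Subgroup.subgroupOf_eq_top] at h
    apply hNt
    rw [eq_top_iff]
    intro g _
    obtain ⟨n, hn⟩ := MulAction.exists_smul_eq N a (g • a)
    have hs : (n : G)⁻¹ * g ∈ N := h (by
      rw [MulAction.mem_stabilizer_iff, mul_smul, ← hn]
      exact inv_smul_smul (n : G) a)
    simpa using mul_mem n.2 hs

end CfsgLib.SimpleCrit
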